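import Cfsg.Agent.H60.DE.Data
import Cfsg.Agent.H364.DAll
import Cfsg.Agent.H221.CS.Basic

/-!
# `PΩ⁺(2n, q)`, `n ≥ 6` even: no simple group of Lie type in cross characteristic (helper364, S3677)
-/

set_option autoImplicit false

namespace Cfsg.Agent.H364.DE

open Cfsg.Agent.H902.Lte Cfsg.Agent.H902.Art Cfsg.Agent.H364.SpVal Cfsg.Agent.H364.DCross Cfsg.Agent.H60.DE

variable {n p f M d m MS I : ℕ}

theorem dvd_of_P {a b : ℕ} (ha : a ≠ 0) (hb : b ≠ 0) (h : ∀ r : ℕ, r.Prime → r ∣ a → P r a ∣ b) : a ∣ b := by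
  rw [← Nat.factorization_le_iff_dvd ha hb]
  intro r
  by_cases hr : r.Prime
  · by_cases hra : r ∣ a
    · exact (hr.pow_dvd_iff_le_factorization hb).1 (h r hr hra)
    · rw [Nat.factorization_eq_zero_of_not_dvd hra]
      exact Nat.zero_le _
  · rw [Nat.factorization_eq_zero_of_not_prime _ hr]
    exact Nat.zero_le _

/-- the prime divisors of `m` of large class are the chosen ones -/
theorem order_of_dvd {q r : ℕ} (hq : 2 ≤ q) (hn : 4 ≤ n) (hev : n % 2 = 0) (hN : Num n q d m) (hr : r.Prime) (hrm : r ∣ m)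
    (ho : n / 2 < orderOf ((q ^ 2 : ℕ) : ZMod r)) : orderOf ((q : ℕ) : ZMod r) = d := by
  have := Fact.mk hr
  have h2 : orderOf ((q ^ 2 : ℕ) : ZMod r) ∣ n - 1 → orderOf ((q ^ 2 : ℕ) : ZMod r) = n - 1 := by
    rintro ⟨k, hk⟩
    have hk1 : k = 1 := by
      by_contra h
      have hk0 : k ≠ 0 := by
        rintro rfl
        omega
      have : orderOf ((q ^ 2 : ℕ) : ZMod r) * 2 ≤ n - 1 := by
        rw [hk]; exact Nat.mul_le_mul_left _ (by omega)
      omega
    rw [hk1, mul_one] at hk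
    exact hk.symm
  have hone : (q : ZMod r) ^ 2 ≠ 1 := by
    intro h0
    rw [Nat.cast_pow, h0, orderOf_one] at ho
    omega
  have hodd : Odd (n - 1) := by
    rw [Nat.odd_iff]; omega
  rcases hN with ⟨rfl, hm, -⟩ | ⟨rfl, hm, -⟩
  · have h3 : r ∣ (q ^ (n - 1) + 1) * (q + 1) := by rw [← hm]; exact hrm.mul_right _
    have h4 : r ∣ q ^ (n - 1) + 1 := by
      rcases hr.dvd_mul.1 h3 with h5 | h5
      · exact h5
      · exfalso
        have h6 : ((q + 1 : ℕ) : ZMod r) = 0 := (ZMod.natCast_eq_zero_iff _ _).2 h5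
        push_cast at h6
        apply hone
        rw [eq_neg_of_add_eq_zero_left h6]
        ring
    have h5 : (q : ZMod r) ^ (n - 1) = -1 := by
      have h6 : ((q ^ (n - 1) + 1 : ℕ) : ZMod r) = 0 := (ZMod.natCast_eq_zero_iff _ _).2 h4
      push_cast at h6
      exact eq_neg_of_add_eq_zero_left h6
    have h6 : ((q ^ 2 : ℕ) : ZMod r) ^ (n - 1) = 1 := by
      rw [Nat.cast_pow, ← pow_mul, mul_comm, pow_mul, h5]
      ring
    have h7 := h2 (orderOf_dvd_of_pow_eq_one h6)
    have h8 : orderOf ((q : ℕ) : ZMod r) ∣ 2 * (n - 1) := by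
      apply orderOf_dvd_of_pow_eq_one
      rw [mul_comm, pow_mul, h5]
      ring
    have h9 : n - 1 ∣ orderOf ((q : ℕ) : ZMod r) := by
      rw [← h7, Nat.cast_pow]
      exact orderOf_pow_dvd 2
    have h10 : ¬ orderOf ((q : ℕ) : ZMod r) ∣ n - 1 := by
      intro h11
      have h12 := orderOf_dvd_iff_pow_eq_one.1 h11
      rw [h5] at h12
      apply hone
      have h13 : (2 : ZMod r) = 0 := by linear_combination -h12
      have h14 : (q : ZMod r) ^ (n - 1) = 1 := by rw [h5, h12]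
      obtain ⟨j, hj⟩ := hodd
      have h15 : r = 2 := by
        have h16 : ((2 : ℕ) : ZMod r) = 0 := by push_cast; exact h13
        exact (Nat.prime_dvd_prime_iff_eq hr Nat.prime_two).1 ((ZMod.natCast_eq_zero_iff _ _).1 h16)
      subst h15
      have h17 : ∀ x : ZMod 2, x ^ (n - 1) = 1 → x ^ 2 = 1 := by
        intro x
        fin_cases x
        · show (0 : ZMod 2) ^ (n - 1) = 1 → (0 : ZMod 2) ^ 2 = 1
          rw [zero_pow (by omega)]
          intro h; exact absurd h zero_ne_one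
        · intro _; rfl
      exact h17 _ h14
    obtain ⟨a, ha⟩ := h9
    rw [ha] at h8 h10 ⊢
    have h11 : 0 < n - 1 := by omega
    have h12 : a ∣ 2 := by
      rw [mul_comm 2] at h8
      exact Nat.dvd_of_mul_dvd_mul_left h11 h8
    rcases (Nat.dvd_prime Nat.prime_two).1 h12 with rfl | rfl
    · exact absurd (by rw [mul_one]) h10
    · ring
  · have h3 : r ∣ (q ^ (n - 1) - 1) * (q - 1) := by rw [← hm]; exact hrm.mul_right _
    have h4 : r ∣ q ^ (n - 1) - 1 := by
      rcases hr.dvd_mul.1 h3 with h5 | h5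
      · exact h5
      · exact h5.trans (Nat.sub_one_dvd_pow_sub_one q (n - 1))
    have h5 : (q : ZMod r) ^ (n - 1) = 1 := by
      have h6 : ((q ^ (n - 1) - 1 : ℕ) : ZMod r) = 0 := (ZMod.natCast_eq_zero_iff _ _).2 h4
      rw [Nat.cast_sub (Nat.one_le_pow _ _ (by omega))] at h6
      push_cast at h6
      exact sub_eq_zero.1 h6
    have h6 : ((q ^ 2 : ℕ) : ZMod r) ^ (n - 1) = 1 := by
      rw [Nat.cast_pow, ← pow_mul, mul_comm, pow_mul, h5]
      ring
    have h7 := h2 (orderOf_dvd_of_pow_eq_one h6)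
    apply Nat.dvd_antisymm (orderOf_dvd_of_pow_eq_one h5)
    rw [← h7, Nat.cast_pow]
    exact orderOf_pow_dvd 2

theorem frD (h : Dat n p f M d m MS I) (h6 : 6 ≤ n) : FrD n (p ^ f) I MS := by
  have hq := h.hY.q_ge
  have hp := h.hY.hp
  intro t ht htr
  have hA := AA_ne (n := n - 1) hq
  have ht0 : t ≠ 0 := fun h0 => hA (by rw [h0] at ht; exact Nat.eq_zero_of_zero_dvd ht)
  have hMS0 : MS ≠ 0 := fun h0 => h.hY.M_ne (by have := h.hMS; rw [h0] at this; exact Nat.eq_zero_of_zero_dvd this)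
  apply dvd_of_P ht0 (Nat.mul_ne_zero h.hI0.ne' hMS0)
  intro r hr hrt
  have ho := htr r hr hrt
  have := Fact.mk hr
  have hr2 : r ≠ 2 := by
    rintro rfl
    have h3 : ∀ x : ZMod 2, orderOf (x ^ 2) ≤ 1 := by
      intro x
      fin_cases x
      · show orderOf ((0 : ZMod 2) ^ 2) ≤ 1
        rw [zero_pow (by norm_num)]
        rw [orderOf_eq_zero_iff'.2]
        · omega
        · intro k hk
          rw [zero_pow (by omega)]
          exact zero_ne_one
      · show orderOf ((1 : ZMod 2) ^ 2) ≤ 1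
        rw [one_pow, orderOf_one]
    have h2 := h3 ((p ^ f : ℕ) : ZMod 2)
    rw [Nat.cast_pow] at ho
    omega
  have hrp : r ≠ p := by
    rintro rfl
    have h2 : orderOf ((((r ^ f) ^ 2 : ℕ)) : ZMod r) = 0 := by
      rw [orderOf_eq_zero_iff']
      intro k hk
      rw [Nat.cast_pow, Nat.cast_pow, ZMod.natCast_self, zero_pow (by have := h.hY.hf; omega), zero_pow (by norm_num),
        zero_pow (by omega)]
      exact zero_ne_one
    omega
  -- the `r`-part of `t` divides the `r`-part of `M`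
  have hPM : P r t ∣ P r M := by
    have h2 := h.hY.P_other hr hrp
    have h3 : P r (dd (.D n) (p ^ f)) = 1 := by
      apply P_eq_one
      intro hd
      have h4 : r ∣ 4 := hd.trans (Nat.gcd_dvd_left _ _)
      have h5 : r ∣ 2 ^ 2 := h4
      exact hr2 ((Nat.prime_dvd_prime_iff_eq hr Nat.prime_two).1 (hr.dvd_of_dvd_pow h5))
    rw [h3, one_mul] at h2
    rw [h2]
    apply pow_dvd_pow
    exact (Nat.factorization_le_iff_dvd ht0 h.hY.num_ne).2 (ht.trans AA_dvd_num) r
  refine hPM.trans ?_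
  by_cases hrm : r ∣ m
  · exact h.per r hr (order_of_dvd hq h.hn h.hev h.num hr hrm ho)
  · apply h.big r hr hrp hrm
    · rintro ⟨h7, rfl⟩
      rw [h7, Cfsg.Agent.H221.CS.order_one_three] at ho
      omega
    · rintro ⟨-, h7⟩
      exact hr2 h7

/-- **No simple group of Lie type in cross characteristic, not `L₂`.** -/
theorem cross (h : Dat n p f M d m MS I) (h6 : 6 ≤ n) {X : Sh} {v g : ℕ} (hX : Real X v g MS) (hX2 : X ≠ .L 2)
    (hvp : v ≠ p) (hI : I ≤ dd X (v ^ g) * NN X * g) (hI' : I ∣ 24 * dd X (v ^ g) * g) : False :=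
  DAll.cross_all ⟨h.hY, hX, hX2, hvp, h.hMS, hI, h.hI0, hI', frD h h6⟩ h6 h.hev

end Cfsg.Agent.H364.DE
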